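import Groth.Agent.Tower.Geom

/-!
Universal homeomorphisms of affine schemes: elementwise criteria, stability in filtered colimits.
-/

set_option autoImplicit false
set_option backward.isDefEq.respectTransparency false

universe u

open CategoryTheory CategoryTheory.Limits AlgebraicGeometry

namespace Tower

lemma universallyInjective_iff {R S : CommRingCat.{u}} (φ : R ⟶ S) :
    UniversallyInjective (Spec.map φ) ↔ ∀ (K : Type u) [Field K] (g g' : S ⟶ CommRingCat.of K),
      φ ≫ g = φ ≫ g' → g = g' := by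
  have h := (tfae_universallyInjective (Spec.map φ)).out 0 1
  refine h.trans ⟨fun H K _ g g' he => Spec.map_injective (H K ?_), fun H K _ g g' he => ?_⟩
  · simp only [← Spec.map_comp, he]
  · obtain ⟨g, rfl⟩ := Spec.map_surjective g
    obtain ⟨g', rfl⟩ := Spec.map_surjective g'
    simp only [← Spec.map_comp] at he
    rw [H K g g' (Spec.map_injective he)]

lemma universallyInjective_of_isUnivHomeo {X Y : Scheme.{u}} (f : X ⟶ Y)
    (h : FlatMor.IsUnivHomeo f) : UniversallyInjective f :=
  ⟨fun X' Y' i₁ i₂ f' hf => (h i₁ i₂ f' hf).injective⟩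

lemma surjective_of_isUnivHomeo {X Y : Scheme.{u}} (f : X ⟶ Y) (h : FlatMor.IsUnivHomeo f) :
    Surjective f :=
  ⟨(h (𝟙 _) (𝟙 _) f IsPullback.of_id_fst.flip).surjective⟩

lemma universallyClosed_of_isUnivHomeo {X Y : Scheme.{u}} (f : X ⟶ Y)
    (h : FlatMor.IsUnivHomeo f) : UniversallyClosed f :=
  ⟨fun X' Y' i₁ i₂ f' hf => (h i₁ i₂ f' hf).isClosedMap⟩

lemma isIntegral_iff_universallyClosed {R S : CommRingCat.{u}} (φ : R ⟶ S) :
    UniversallyClosed (Spec.map φ) ↔ φ.hom.IsIntegral := by
  rw [← IsIntegralHom.SpecMap_iff (φ := φ), IsIntegralHom.iff_universallyClosed_and_isAffineHom]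
  exact ⟨fun h => ⟨h, inferInstance⟩, And.left⟩

/-- Triviality of the residue extensions, elementwise. -/
lemma residueFieldMap_surjective_iff {R S : CommRingCat.{u}} (φ : R ⟶ S) :
    (∀ Q : Spec S, Function.Surjective ((Spec.map φ).residueFieldMap Q)) ↔
      ∀ (Q : Ideal S), Q.IsPrime → ∀ d : S, ∃ t a : R, φ.hom t ∉ Q ∧ φ.hom t * d - φ.hom a ∈ Q := by
  letI := φ.hom.toAlgebra
  constructor
  · intro h Q hQ d
    obtain ⟨t, a, ht, hta⟩ := exists_mul_pow_sub_mem (A := R) (B := S) ⟨Q, hQ⟩ d 1
      (h ⟨Q, hQ⟩ _)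
    rw [pow_one] at hta
    exact ⟨t, a, ht, hta⟩
  · intro h Q z
    set r := ((Spec.map (CommRingCat.ofHom (algebraMap R S))).residueFieldMap Q).hom with hr
    show z ∈ r.fieldRange
    have hmem : ∀ d : S, res Q d ∈ r.fieldRange := fun d => by
      obtain ⟨t, a, ht, hta⟩ := h Q.asIdeal Q.isPrime d
      have hta' : res Q (algebraMap R S t) * res Q d = res Q (algebraMap R S a) := by
        rw [← map_mul, ← sub_eq_zero, ← map_sub, res_eq_zero_iff]
        exact hta
      have ht0 : res Q (algebraMap R S t) ≠ 0 := fun hh => ht ((res_eq_zero_iff Q _).mp hh)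
      have : res Q d = res Q (algebraMap R S a) / res Q (algebraMap R S t) := by
        rw [eq_div_iff ht0, ← hta', mul_comm]
      rw [this]
      exact div_mem ⟨_, residueFieldMap_res Q a⟩ ⟨_, residueFieldMap_res Q t⟩
    obtain ⟨x, y, hy, hz⟩ := exists_res_div (B := S) Q z
    have hy0 : res Q y ≠ 0 := fun hh => hy ((res_eq_zero_iff Q y).mp hh)
    have : z = res Q x / res Q y := by rw [eq_div_iff hy0, hz]
    rw [this]
    exact div_mem (hmem x) (hmem y)

section Colim

variable (A : CommRingCat.{u}) {J : Type u} [SmallCategory J] [IsFiltered J]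
  (F : J ⥤ Under A) (c : Cocone F) (hc : IsColimit c)

include hc in
lemma exists_rep (b : c.pt.right) : ∃ j x, (c.ι.app j).right.hom x = b := by
  have h1 := isColimitOfPreserves (Under.forget A ⋙ forget CommRingCat.{u}) hc
  exact Types.jointly_surjective_of_isColimit h1 b

include hc in
lemma exists_map_eq {j : J} (x y : (F.obj j).right)
    (h : (c.ι.app j).right.hom x = (c.ι.app j).right.hom y) :
    ∃ (k : J) (f g : j ⟶ k), (F.map f).right.hom x = (F.map g).right.hom y := by
  have h1 := isColimitOfPreserves (Under.forget A ⋙ forget CommRingCat.{u}) hc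
  exact (Types.FilteredColimit.isColimit_eq_iff _ h1).mp h

lemma ι_hom (j : J) (a : A) : (c.ι.app j).right.hom ((F.obj j).hom.hom a) = c.pt.hom.hom a :=
  congrArg (fun (χ : A ⟶ c.pt.right) => χ.hom a) (Under.w (c.ι.app j))

lemma map_hom {i j : J} (f : i ⟶ j) (a : A) :
    (F.map f).right.hom ((F.obj i).hom.hom a) = (F.obj j).hom.hom a :=
  congrArg (fun (χ : A ⟶ (F.obj j).right) => χ.hom a) (Under.w (F.map f))

include hc in
lemma colimit_isIntegral (h : ∀ j, (F.obj j).hom.hom.IsIntegral) : c.pt.hom.hom.IsIntegral := by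
  intro b
  obtain ⟨j, x, rfl⟩ := exists_rep A F c hc b
  obtain ⟨p, hp, hpx⟩ := h j x
  refine ⟨p, hp, ?_⟩
  have := congrArg (c.ι.app j).right.hom hpx
  rw [Polynomial.hom_eval₂, map_zero] at this
  convert! this using 2
  exact (RingHom.ext fun a => ι_hom A F c j a).symm

include hc in
lemma colimit_universallyInjective (h : ∀ j, UniversallyInjective (Spec.map (F.obj j).hom)) :
    UniversallyInjective (Spec.map c.pt.hom) := by
  rw [universallyInjective_iff]
  intro K _ g g' he
  refine CommRingCat.hom_ext (RingHom.ext fun b => ?_)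
  obtain ⟨j, x, rfl⟩ := exists_rep A F c hc b
  refine congrArg (fun (χ : (F.obj j).right ⟶ CommRingCat.of K) => χ.hom x)
    ((universallyInjective_iff _).mp (h j) K ((c.ι.app j).right ≫ g) ((c.ι.app j).right ≫ g') ?_)
  rw [Under.w_assoc, Under.w_assoc]
  exact he

include hc in
lemma colimit_surjective (h : ∀ j, Surjective (Spec.map (F.obj j).hom)) :
    Surjective (Spec.map c.pt.hom) := by
  refine ⟨fun P => ?_⟩
  suffices hP : (P.asIdeal.map c.pt.hom.hom).comap c.pt.hom.hom = P.asIdeal by
    obtain ⟨Q, hQ, hQP⟩ := (Ideal.comap_map_eq_self_iff_of_isPrime P.asIdeal).mp hP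
    exact ⟨⟨Q, hQ⟩, PrimeSpectrum.ext hQP⟩
  refine le_antisymm (fun a ha => ?_) Ideal.le_comap_map
  have key : ∀ b ∈ P.asIdeal.map c.pt.hom.hom,
      ∃ j x, x ∈ P.asIdeal.map (F.obj j).hom.hom ∧ (c.ι.app j).right.hom x = b := by
    intro b hb
    refine Submodule.span_induction ?_ ?_ ?_ ?_ hb
    · rintro _ ⟨p, hp, rfl⟩
      exact ⟨_, _, Ideal.mem_map_of_mem (F.obj IsFiltered.nonempty.some).hom.hom hp,
        ι_hom A F c _ p⟩
    · exact ⟨IsFiltered.nonempty.some, 0, zero_mem _, map_zero _⟩
    · rintro _ _ - - ⟨i, x, hx, rfl⟩ ⟨j, y, hy, rfl⟩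
      refine ⟨IsFiltered.max i j, (F.map (IsFiltered.leftToMax i j)).right.hom x +
        (F.map (IsFiltered.rightToMax i j)).right.hom y, add_mem ?_ ?_, ?_⟩
      · have := Ideal.mem_map_of_mem (F.map (IsFiltered.leftToMax i j)).right.hom hx
        rw [Ideal.map_map] at this
        convert! this using 2
        exact (RingHom.ext fun a => map_hom A F _ a).symm
      · have := Ideal.mem_map_of_mem (F.map (IsFiltered.rightToMax i j)).right.hom hy
        rw [Ideal.map_map] at this
        convert! this using 2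
        exact (RingHom.ext fun a => map_hom A F _ a).symm
      · rw [map_add]
        exact congrArg₂ (· + ·)
          (congrArg (fun (χ : F.obj i ⟶ c.pt) => χ.right.hom x)
            (c.w (IsFiltered.leftToMax i j)))
          (congrArg (fun (χ : F.obj j ⟶ c.pt) => χ.right.hom y)
            (c.w (IsFiltered.rightToMax i j)))
    · rintro r _ - ⟨i, x, hx, rfl⟩
      obtain ⟨j, y, rfl⟩ := exists_rep A F c hc r
      refine ⟨IsFiltered.max i j, (F.map (IsFiltered.rightToMax i j)).right.hom y *
        (F.map (IsFiltered.leftToMax i j)).right.hom x, Ideal.mul_mem_left _ _ ?_, ?_⟩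
      · have := Ideal.mem_map_of_mem (F.map (IsFiltered.leftToMax i j)).right.hom hx
        rw [Ideal.map_map] at this
        convert! this using 2
        exact (RingHom.ext fun a => map_hom A F _ a).symm
      · rw [map_mul, smul_eq_mul]
        exact congrArg₂ (· * ·)
          (congrArg (fun (χ : F.obj j ⟶ c.pt) => χ.right.hom y)
            (c.w (IsFiltered.rightToMax i j)))
          (congrArg (fun (χ : F.obj i ⟶ c.pt) => χ.right.hom x)
            (c.w (IsFiltered.leftToMax i j)))
  obtain ⟨j, x, hx, hxa⟩ := key _ ha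
  rw [← ι_hom A F c j a] at hxa
  obtain ⟨k, f, g, hfg⟩ := exists_map_eq A F c hc x ((F.obj j).hom.hom a) hxa
  rw [map_hom] at hfg
  have hak : (F.obj k).hom.hom a ∈ P.asIdeal.map (F.obj k).hom.hom := by
    rw [← hfg]
    have := Ideal.mem_map_of_mem (F.map f).right.hom hx
    rw [Ideal.map_map] at this
    convert! this using 2
    exact (RingHom.ext fun a => map_hom A F _ a).symm
  obtain ⟨Q, hQ⟩ := (h k).surj P
  have : (P.asIdeal.map (F.obj k).hom.hom).comap (F.obj k).hom.hom = P.asIdeal :=
    (Ideal.comap_map_eq_self_iff_of_isPrime P.asIdeal).mpr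
      ⟨Q.asIdeal, Q.isPrime, congrArg PrimeSpectrum.asIdeal hQ⟩
  rw [← this]
  exact hak

include hc in
lemma colimit_residueFieldMap_surjective
    (h : ∀ j, ∀ x : Spec (F.obj j).right,
      Function.Surjective ((Spec.map (F.obj j).hom).residueFieldMap x)) :
    ∀ x : Spec c.pt.right, Function.Surjective ((Spec.map c.pt.hom).residueFieldMap x) := by
  rw [residueFieldMap_surjective_iff]
  intro Q hQ d
  obtain ⟨j, x, rfl⟩ := exists_rep A F c hc d
  obtain ⟨t, a, ht, hta⟩ := (residueFieldMap_surjective_iff _).mp (h j)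
    (Q.comap (c.ι.app j).right.hom) (Ideal.comap_isPrime _ Q) x
  rw [Ideal.mem_comap] at ht hta
  refine ⟨t, a, ι_hom A F c j t ▸ ht, ?_⟩
  have e := ((c.ι.app j).right.hom.map_sub ((F.obj j).hom.hom t * x) ((F.obj j).hom.hom a)).trans
    (congrArg₂ (· - ·) (((c.ι.app j).right.hom.map_mul ((F.obj j).hom.hom t) x).trans
      (congrArg (· * _) (ι_hom A F c j t))) (ι_hom A F c j a))
  exact e ▸ hta

include hc in
lemma colimit_isUnivHomeo (h : ∀ j, FlatMor.IsUnivHomeo (Spec.map (F.obj j).hom)) :
    FlatMor.IsUnivHomeo (Spec.map c.pt.hom) := by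
  haveI : IsIntegralHom (Spec.map c.pt.hom) := IsIntegralHom.SpecMap_iff.mpr
    (colimit_isIntegral A F c hc fun j =>
      (isIntegral_iff_universallyClosed _).mp (universallyClosed_of_isUnivHomeo _ (h j)))
  haveI := colimit_surjective A F c hc fun j => surjective_of_isUnivHomeo _ (h j)
  haveI := colimit_universallyInjective A F c hc fun j =>
    universallyInjective_of_isUnivHomeo _ (h j)
  exact Groth.Agent.EtaPtLib.isUnivHomeo_of_isIntegralHom _

end Colim

end Tower
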