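import Groth.Agent.Tower.Basic
import Groth.Agent.EtaPt.UnivHomeo

/-!
Universal homeomorphisms `Spec B → Spec A` and towers of elementary extensions.
-/

set_option autoImplicit false
set_option backward.isDefEq.respectTransparency false

universe u

open CategoryTheory AlgebraicGeometry

namespace Tower

variable {A B : Type u} [CommRing A] [CommRing B] [Algebra A B]

/-- The residue map `B → κ(Q)` of the point `Q` of `Spec B`. -/
noncomputable def res (Q : PrimeSpectrum B) : B →+* (Spec (CommRingCat.of B)).residueField Q :=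
  (Scheme.Spec.residueFieldIso (CommRingCat.of B) Q).inv.hom.comp
    (algebraMap B Q.asIdeal.ResidueField)

lemma res_eq_zero_iff (Q : PrimeSpectrum B) (b : B) : res Q b = 0 ↔ b ∈ Q.asIdeal := by
  have hinj : Function.Injective (Scheme.Spec.residueFieldIso (CommRingCat.of B) Q).inv.hom :=
    (ConcreteCategory.bijective_of_isIso
      (Scheme.Spec.residueFieldIso (CommRingCat.of B) Q).inv).1
  rw [res, RingHom.comp_apply, map_eq_zero_iff _ hinj]
  exact Ideal.algebraMap_residueField_eq_zero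

lemma exists_res_div (Q : PrimeSpectrum B) (z : (Spec (CommRingCat.of B)).residueField Q) :
    ∃ x y : B, y ∉ Q.asIdeal ∧ z * res Q y = res Q x := by
  obtain ⟨w, rfl⟩ := (ConcreteCategory.bijective_of_isIso
    (Scheme.Spec.residueFieldIso (CommRingCat.of B) Q).inv).2 z
  obtain ⟨x, y, hy, rfl⟩ :=
    IsFractionRing.div_surjective (B ⧸ Q.asIdeal) (w : Q.asIdeal.ResidueField)
  obtain ⟨x, rfl⟩ := Ideal.Quotient.mk_surjective x
  obtain ⟨y, rfl⟩ := Ideal.Quotient.mk_surjective y
  have hy0 : algebraMap B Q.asIdeal.ResidueField y ≠ 0 := fun h => by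
    rw [Ideal.algebraMap_residueField_eq_zero] at h
    exact nonZeroDivisors.ne_zero hy (Ideal.Quotient.eq_zero_iff_mem.mpr h)
  refine ⟨x, y, fun h => hy0 (Ideal.algebraMap_residueField_eq_zero.mpr h), ?_⟩
  rw [res, RingHom.comp_apply, RingHom.comp_apply]
  refine ((Scheme.Spec.residueFieldIso (CommRingCat.of B) Q).inv.hom.map_mul _ _).symm.trans ?_
  congr 1
  exact div_mul_cancel₀ _ hy0

lemma residueFieldMap_res (Q : PrimeSpectrum B) (a : A) :
    (Spec.map (CommRingCat.ofHom (algebraMap A B))).residueFieldMap Q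
      (res (PrimeSpectrum.comap (algebraMap A B) Q) a) = res Q (algebraMap A B a) :=
  Groth.Agent.EtaPtLib.residueFieldMap_residueFieldIso (CommRingCat.ofHom (algebraMap A B)) Q a

lemma exists_mul_pow_sub_mem (Q : PrimeSpectrum B) (d : B) (m : ℕ)
    (h : res Q d ^ m ∈ Set.range
      ((Spec.map (CommRingCat.ofHom (algebraMap A B))).residueFieldMap Q)) :
    ∃ t a : A, algebraMap A B t ∉ Q.asIdeal ∧
      algebraMap A B t * d ^ m - algebraMap A B a ∈ Q.asIdeal := by
  obtain ⟨w, hw⟩ := h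
  obtain ⟨a, t, ht, hwt⟩ := exists_res_div (PrimeSpectrum.comap (algebraMap A B) Q) w
  refine ⟨t, a, ht, ?_⟩
  rw [← res_eq_zero_iff, map_sub, map_mul, map_pow, sub_eq_zero, ← residueFieldMap_res,
    ← residueFieldMap_res, ← hw, mul_comm, ← map_mul, hwt]

/-- A subalgebra containing all steps over it is `⊤` once it contains every tower. -/
lemma eq_top_of_towers {st : B → Subalgebra A B → Prop}
    (hst : ∀ b S T, S ≤ T → st b S → st b T)
    (h : ∀ E : Finset B, ∃ l : List B, (↑E : Set B) ⊆ (gen A l : Subalgebra A B) ∧ IsTower st l)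
    (S : Subalgebra A B) (hS : ∀ b, st b S → b ∈ S) : S = ⊤ := by
  refine eq_top_iff.mpr fun b _ => ?_
  obtain ⟨l, hbl, hl⟩ := h {b}
  exact hl.gen_le hst S hS (hbl (by simp))

lemma universallyInjective_of_towers {st : B → Subalgebra A B → Prop}
    (hst : ∀ b S T, S ≤ T → st b S → st b T)
    (h : ∀ E : Finset B, ∃ l : List B, (↑E : Set B) ⊆ (gen A l : Subalgebra A B) ∧ IsTower st l)
    (hK : ∀ (K : Type u) [Field K] (g g' : B →+* K) (b : B) (S : Subalgebra A B),
      (∀ x ∈ S, g x = g' x) → st b S → g b = g' b) :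
    UniversallyInjective (Spec.map (CommRingCat.ofHom (algebraMap A B))) := by
  refine ((tfae_universallyInjective
    (Spec.map (CommRingCat.ofHom (algebraMap A B)))).out 0 1).mpr ?_
  intro K instK g g' hgg'
  obtain ⟨g, rfl⟩ := Spec.map_surjective g
  obtain ⟨g', rfl⟩ := Spec.map_surjective g'
  simp only [← Spec.map_comp] at hgg'
  have hA : ∀ a, g.hom (algebraMap A B a) = g'.hom (algebraMap A B a) := fun a =>
    congrArg (fun (χ : CommRingCat.of A ⟶ CommRingCat.of K) => χ.hom a) (Spec.map_injective hgg')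
  let S : Subalgebra A B :=
    { RingHom.eqLocus g.hom g'.hom with algebraMap_mem' := hA }
  have hS : S = ⊤ := eq_top_of_towers hst h S fun b hb => hK K g.hom g'.hom b S (fun x hx => hx) hb
  congr 1
  refine CommRingCat.hom_ext (RingHom.ext fun b => ?_)
  exact (hS.symm ▸ Algebra.mem_top : b ∈ S)

lemma isUnivHomeo_of_towers {st : B → Subalgebra A B → Prop}
    (hinj : Function.Injective (algebraMap A B))
    (hst : ∀ b S T, S ≤ T → st b S → st b T)
    (h : ∀ E : Finset B, ∃ l : List B, (↑E : Set B) ⊆ (gen A l : Subalgebra A B) ∧ IsTower st l)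
    (hint : ∀ (b : B) (S : Subalgebra A B), st b S → ∃ n, 0 < n ∧ b ^ n ∈ S)
    (hK : ∀ (K : Type u) [Field K] (g g' : B →+* K) (b : B) (S : Subalgebra A B),
      (∀ x ∈ S, g x = g' x) → st b S → g b = g' b) :
    FlatMor.IsUnivHomeo (Spec.map (CommRingCat.ofHom (algebraMap A B))) := by
  haveI : Algebra.IsIntegral A B := by
    refine ⟨fun b => ?_⟩
    have := eq_top_of_towers hst h (integralClosure A B) fun c hc => by
      obtain ⟨n, hn, hcn⟩ := hint c _ hc
      exact IsIntegral.of_pow hn hcn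
    exact (this.symm ▸ Algebra.mem_top : b ∈ integralClosure A B)
  haveI : IsIntegralHom (Spec.map (CommRingCat.ofHom (algebraMap A B))) :=
    IsIntegralHom.SpecMap_iff.mpr (algebraMap_isIntegral_iff.mpr inferInstance)
  haveI : Surjective (Spec.map (CommRingCat.ofHom (algebraMap A B))) := ⟨fun P => by
    obtain ⟨Q, -, hQ, hQP⟩ := Ideal.exists_ideal_over_prime_of_isIntegral (S := B)
      (P : PrimeSpectrum A).asIdeal ⊥ (by
        intro x hx
        have : algebraMap A B x = 0 := hx
        rw [hinj (this.trans (map_zero _).symm)]; exact zero_mem _)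
    exact ⟨⟨Q, hQ⟩, PrimeSpectrum.ext hQP⟩⟩
  haveI := universallyInjective_of_towers hst h hK
  exact Groth.Agent.EtaPtLib.isUnivHomeo_of_isIntegralHom _

lemma eq_of_eq_on_sqCube {K : Type u} [Field K] (g g' : B →+* K) {b : B} {S : Subalgebra A B}
    (hS : ∀ x ∈ S, g x = g' x) (hb : SqCube b S) : g b = g' b := by
  have h2 : g b ^ 2 = g' b ^ 2 := by rw [← map_pow, ← map_pow]; exact hS _ hb.1
  have h3 : g b ^ 3 = g' b ^ 3 := by rw [← map_pow, ← map_pow]; exact hS _ hb.2
  rcases eq_or_ne (g b) 0 with h0 | h0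
  · rw [h0, zero_pow two_ne_zero] at h2
    rw [h0, eq_comm]
    exact pow_eq_zero_iff two_ne_zero |>.mp h2.symm
  · have : g b ^ 2 * g b = g b ^ 2 * g' b := by
      rw [← pow_succ, h3, pow_succ, h2]
    exact mul_left_cancel₀ (pow_ne_zero 2 h0) this

lemma eq_of_eq_on_sqCubeOrPrime {K : Type u} [Field K] (g g' : B →+* K) {b : B}
    {S : Subalgebra A B} (hS : ∀ x ∈ S, g x = g' x) (hb : SqCubeOrPrime b S) : g b = g' b := by
  rcases hb with hb | ⟨p, hp, h1, h2⟩
  · exact eq_of_eq_on_sqCube g g' hS hb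
  · by_cases hpK : (p : K) = 0
    · haveI := Fact.mk hp
      haveI : CharP K p := (CharP.charP_iff_prime_eq_zero hp).mpr hpK
      have := hS _ h2
      rw [map_pow, map_pow] at this
      rw [← sub_eq_zero]
      refine (pow_eq_zero_iff hp.pos.ne').mp ?_
      rw [sub_pow_char, this, sub_self]
    · have := hS _ h1
      rw [map_mul, map_mul, map_natCast, map_natCast] at this
      exact mul_left_cancel₀ hpK this

lemma residueFieldMap_surjective_of_towers
    (h : ∀ E : Finset B, ∃ l : List B, (↑E : Set B) ⊆ (gen A l : Subalgebra A B) ∧ IsTower (A := A) SqCube l)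
    (Q : PrimeSpectrum B) :
    Function.Surjective ((Spec.map (CommRingCat.ofHom (algebraMap A B))).residueFieldMap Q) := by
  set r := ((Spec.map (CommRingCat.ofHom (algebraMap A B))).residueFieldMap Q).hom with hr
  let S : Subalgebra A B :=
    { r.fieldRange.toSubring.comap (res Q) with
      algebraMap_mem' := fun a => ⟨_, residueFieldMap_res Q a⟩ }
  have hS : S = ⊤ := eq_top_of_towers sqCube_mono h S fun b hb => by
    obtain ⟨h2, h3⟩ := hb
    show res Q b ∈ r.fieldRange
    have h2' : res Q b ^ 2 ∈ r.fieldRange := by rw [← map_pow]; exact h2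
    have h3' : res Q b ^ 3 ∈ r.fieldRange := by rw [← map_pow]; exact h3
    rcases eq_or_ne (res Q b) 0 with h0 | h0
    · rw [h0]; exact zero_mem _
    · have : res Q b = res Q b ^ 3 / res Q b ^ 2 := by field_simp
      rw [this]
      exact div_mem h3' h2'
  intro z
  obtain ⟨x, y, hy, hz⟩ := exists_res_div Q z
  have hy0 : res Q y ≠ 0 := fun hh => hy ((res_eq_zero_iff Q y).mp hh)
  show z ∈ r.fieldRange
  have : z = res Q x / res Q y := by rw [eq_div_iff hy0, hz]
  rw [this]
  have hmem : ∀ b : B, res Q b ∈ r.fieldRange := fun b => (hS.symm ▸ Algebra.mem_top : b ∈ S)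
  exact div_mem (hmem x) (hmem y)

lemma integral_and_unique_prime
    (hu : FlatMor.IsUnivHomeo (Spec.map (CommRingCat.ofHom (algebraMap A B)))) :
    Algebra.IsIntegral A B ∧ ∀ Q Q' : Ideal B, Q.IsPrime → Q'.IsPrime →
      Q.comap (algebraMap A B) = Q'.comap (algebraMap A B) → Q = Q' := by
  obtain ⟨hint, hbij⟩ := Groth.Agent.EtaPtLib.isIntegral_of_isUnivHomeo _ hu
  refine ⟨algebraMap_isIntegral_iff.mp hint, fun Q Q' hQ hQ' h => ?_⟩
  exact congrArg PrimeSpectrum.asIdeal
    (hbij.1 (a₁ := ⟨Q, hQ⟩) (a₂ := ⟨Q', hQ'⟩) (PrimeSpectrum.ext h))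

lemma exists_finset_tower {st : B → Subalgebra A B → Prop}
    {hst : ∀ b S T, S ≤ T → st b S → st b T} (h : closure st hst = ⊤) (E : Finset B) :
    ∃ l : List B, (↑E : Set B) ⊆ (gen A l : Subalgebra A B) ∧ IsTower st l := by
  obtain ⟨l, hl, hE⟩ := exists_tower_of_finset hst E fun e _ => h ▸ Algebra.mem_top
  exact ⟨l, hE, hl⟩

theorem towers_of_isUnivHomeo_of_surjective
    (hu : FlatMor.IsUnivHomeo (Spec.map (CommRingCat.ofHom (algebraMap A B))))
    (hres : ∀ x, Function.Surjective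
      ((Spec.map (CommRingCat.ofHom (algebraMap A B))).residueFieldMap x)) (E : Finset B) :
    ∃ l : List B, (↑E : Set B) ⊆ (gen A l : Subalgebra A B) ∧ IsTower (A := A) SqCube l := by
  obtain ⟨hint, hP⟩ := integral_and_unique_prime hu
  refine exists_finset_tower (hst := sqCube_mono) ?_ E
  refine eq_top_of_closed (fun b h2 h3 => mem_closure_sqCube h2 h3) hP fun Q hQ d => ?_
  obtain ⟨t, a, ht, hta⟩ := exists_mul_pow_sub_mem ⟨Q, hQ⟩ d 1 (hres ⟨Q, hQ⟩ _)
  exact ⟨t, a, 1, ht, hta, Or.inl rfl⟩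

theorem towers_of_isUnivHomeo
    (hu : FlatMor.IsUnivHomeo (Spec.map (CommRingCat.ofHom (algebraMap A B)))) (E : Finset B) :
    ∃ l : List B, (↑E : Set B) ⊆ (gen A l : Subalgebra A B) ∧ IsTower (A := A) SqCubeOrPrime l := by
  obtain ⟨hint, hP⟩ := integral_and_unique_prime hu
  haveI : UniversallyInjective (Spec.map (CommRingCat.ofHom (algebraMap A B))) :=
    ⟨fun X' Y' i₁ i₂ f' hf => (hu i₁ i₂ f' hf).injective⟩
  have hiff : UniversallyInjective (Spec.map (CommRingCat.ofHom (algebraMap A B))) ↔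
      Function.Injective (Spec.map (CommRingCat.ofHom (algebraMap A B))) ∧ ∀ x,
        ((Spec.map (CommRingCat.ofHom (algebraMap A B))).residueFieldMap x).hom.IsPurelyInseparable :=
    (tfae_universallyInjective _).out 0 2
  have hpi := (hiff.mp inferInstance).2
  refine exists_finset_tower (hst := sqCubeOrPrime_mono) ?_ E
  refine eq_top_of_closed (fun b h2 h3 => mem_closure_sqCubeOrPrime (Or.inl ⟨h2, h3⟩)) hP
    fun Q hQ d => ?_
  letI := ((Spec.map (CommRingCat.ofHom (algebraMap A B))).residueFieldMap ⟨Q, hQ⟩).hom.toAlgebra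
  haveI : IsPurelyInseparable _ _ := hpi ⟨Q, hQ⟩
  set F := ((Spec (CommRingCat.of A)).residueField
    ((Spec.map (CommRingCat.ofHom (algebraMap A B))) ⟨Q, hQ⟩) : Type u) with hF
  obtain ⟨q, hq⟩ := ExpChar.exists F
  obtain ⟨n, hn⟩ := IsPurelyInseparable.pow_mem F q (res (⟨Q, hQ⟩ : PrimeSpectrum B) d)
  obtain ⟨t, a, ht, hta⟩ := exists_mul_pow_sub_mem ⟨Q, hQ⟩ d (q ^ n) hn
  refine ⟨t, a, q ^ n, ht, hta, ?_⟩
  rcases hq with _ | hq'
  · exact Or.inl (one_pow n)
  · refine Or.inr ⟨q, n, hq', rfl, ?_, fun e h1 h2 =>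
      mem_closure_sqCubeOrPrime (Or.inr ⟨q, hq', h1, h2⟩)⟩
    show (q : B) ∈ (⟨Q, hQ⟩ : PrimeSpectrum B).asIdeal
    rw [← res_eq_zero_iff, map_natCast]
    exact (map_natCast (algebraMap F _) q).symm.trans
      ((congrArg _ (CharP.cast_eq_zero F q)).trans (map_zero _))

end Tower
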