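import Groth.Agent.Tower.Geom
import Groth.Agent.Tower.Colim

/-!
Elementary consequences of the tower description of universal homeomorphisms.
-/

set_option autoImplicit false
set_option backward.isDefEq.respectTransparency false
set_option linter.style.haveILetI false

universe u

open CategoryTheory AlgebraicGeometry Limits Polynomial

namespace Tower

variable {A B : Type u} [CommRing A] [CommRing B] [Algebra A B]

/-- A tower reaching an element outside `A` has an elementary step outside `A`. -/
lemma exists_step {st : B → Subalgebra A B → Prop} (hst : ∀ b S T, S ≤ T → st b S → st b T)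
    (h : ∀ E : Finset B, ∃ l : List B, (↑E : Set B) ⊆ (gen A l : Subalgebra A B) ∧ IsTower st l)
    (hns : ¬ Function.Surjective (algebraMap A B)) :
    ∃ b, b ∉ (algebraMap A B).range ∧ st b ⊥ := by
  by_contra hne
  refine hns fun b => Algebra.mem_bot.1 ((eq_top_of_towers hst h ⊥ fun c hc => ?_).ge trivial)
  by_contra hc'
  exact hne ⟨c, fun ⟨a, ha⟩ => hc' (Algebra.mem_bot.2 ⟨a, ha⟩), hc⟩

/-- Universal homeomorphism from a monogenic elementary extension. -/
lemma isUnivHomeo_of_root {st : B → Subalgebra A B → Prop} (hst : ∀ b S T, S ≤ T → st b S → st b T)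
    (r : B) (hr : Algebra.adjoin A {r} = ⊤) (hst0 : st r ⊥)
    (hint : ∀ (b : B) (S : Subalgebra A B), st b S → ∃ n, 0 < n ∧ b ^ n ∈ S)
    (hK : ∀ (K : Type u) [Field K] (g g' : B →+* K) (b : B) (S : Subalgebra A B),
      (∀ x ∈ S, g x = g' x) → st b S → g b = g' b)
    (hsurj : ∀ (K : Type u) [Field K] [IsAlgClosed K] (g : A →+* K),
      ∃ g' : B →+* K, g'.comp (algebraMap A B) = g) :
    FlatMor.IsUnivHomeo (Spec.map (CommRingCat.ofHom (algebraMap A B))) ∧
      (∀ E : Finset B, ∃ l : List B, (↑E : Set B) ⊆ (gen A l : Subalgebra A B) ∧ IsTower st l) := by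
  have h : ∀ E : Finset B, ∃ l : List B, (↑E : Set B) ⊆ (gen A l : Subalgebra A B) ∧ IsTower st l := by
    intro E
    refine ⟨[r], fun x _ => ?_, ?_⟩
    · have : gen A [r] = ⊤ := by
        rw [gen, ← hr]; congr 1; ext y; simp
      rw [this]; trivial
    · intro i hi
      obtain rfl : i = 0 := by simpa using hi
      exact hst _ _ _ bot_le hst0
  refine ⟨?_, h⟩
  haveI : Algebra.IsIntegral A B := ⟨fun b => by
    have := eq_top_of_towers hst h (integralClosure A B) fun c hc => by
      obtain ⟨n, hn, hcn⟩ := hint c _ hc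
      exact IsIntegral.of_pow hn hcn
    exact (this.symm ▸ Algebra.mem_top : b ∈ integralClosure A B)⟩
  haveI : IsIntegralHom (Spec.map (CommRingCat.ofHom (algebraMap A B))) :=
    IsIntegralHom.SpecMap_iff.mpr (algebraMap_isIntegral_iff.mpr inferInstance)
  haveI : Surjective (Spec.map (CommRingCat.ofHom (algebraMap A B))) := ⟨fun P => by
    let g : A →+* AlgebraicClosure (P : PrimeSpectrum A).asIdeal.ResidueField :=
      (algebraMap (P : PrimeSpectrum A).asIdeal.ResidueField _).comp
        (algebraMap A (P : PrimeSpectrum A).asIdeal.ResidueField)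
    obtain ⟨g', hg'⟩ := hsurj _ g
    refine ⟨PrimeSpectrum.comap g' ⟨⊥, Ideal.isPrime_bot⟩, PrimeSpectrum.ext (Ideal.ext fun a => ?_)⟩
    change g' (algebraMap A B a) ∈ (⊥ : Ideal _) ↔ a ∈ (P : PrimeSpectrum A).asIdeal
    rw [Ideal.mem_bot, ← RingHom.comp_apply g', hg', RingHom.comp_apply, map_eq_zero,
      Ideal.algebraMap_residueField_eq_zero]⟩
  haveI := universallyInjective_of_towers hst h hK
  exact Groth.Agent.EtaPtLib.isUnivHomeo_of_isIntegralHom _

/-- universal injectivity cancels a surjection -/
lemma universallyInjective_of_surjective_comp {X Y Z : Scheme.{u}} (g : X ⟶ Y) (f : Y ⟶ Z)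
    [Surjective g] [UniversallyInjective (g ≫ f)] : UniversallyInjective f := by
  rw [UniversallyInjective.iff_diagonal]
  have hd := (UniversallyInjective.iff_diagonal (g ≫ f)).1 inferInstance
  have hm : Surjective (pullback.map (g ≫ f) (g ≫ f) f f g g (𝟙 Z) (by simp) (by simp)) :=
    MorphismProperty.pullbackMap (P := @Surjective) ‹_› ‹_› rfl rfl
  have hc : pullback.diagonal (g ≫ f) ≫ pullback.map (g ≫ f) (g ≫ f) f f g g (𝟙 Z) (by simp) (by simp) =
      g ≫ pullback.diagonal f := by
    ext <;> simp
  haveI : Surjective (g ≫ pullback.diagonal f) := hc ▸ MorphismProperty.comp_mem _ _ _ hd hm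
  exact Surjective.of_comp g _

lemma subalgebra_factor (B' : Subalgebra A B) :
    Spec.map (CommRingCat.ofHom (algebraMap B' B)) ≫ Spec.map (CommRingCat.ofHom (algebraMap A B')) =
      Spec.map (CommRingCat.ofHom (algebraMap A B)) := by
  rw [← Spec.map_comp]; rfl

lemma subalgebra_universallyClosed (B' : Subalgebra A B)
    (h : UniversallyClosed (Spec.map (CommRingCat.ofHom (algebraMap A B)))) :
    UniversallyClosed (Spec.map (CommRingCat.ofHom (algebraMap A B'))) := by
  rw [isIntegral_iff_universallyClosed, CommRingCat.hom_ofHom, algebraMap_isIntegral_iff] at h ⊢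
  exact ⟨fun x => (isIntegral_algHom_iff B'.val Subtype.val_injective).1 (h.isIntegral _)⟩

lemma subalgebra_surjective (B' : Subalgebra A B)
    (h : UniversallyClosed (Spec.map (CommRingCat.ofHom (algebraMap A B)))) :
    Surjective (Spec.map (CommRingCat.ofHom (algebraMap B' B))) := by
  rw [isIntegral_iff_universallyClosed, CommRingCat.hom_ofHom, algebraMap_isIntegral_iff] at h
  haveI : Algebra.IsIntegral B' B := Algebra.IsIntegral.tower_top A
  refine ⟨fun P => ?_⟩
  obtain ⟨Q, -, hQ, hQP⟩ := Ideal.exists_ideal_over_prime_of_isIntegral (S := B)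
    (P : PrimeSpectrum B').asIdeal ⊥ (by
      intro x hx
      have : algebraMap B' B x = 0 := hx
      rw [show x = 0 from Subtype.val_injective this]; exact zero_mem _)
  exact ⟨⟨Q, hQ⟩, PrimeSpectrum.ext hQP⟩

lemma subalgebra_universallyInjective (B' : Subalgebra A B)
    (hc : UniversallyClosed (Spec.map (CommRingCat.ofHom (algebraMap A B))))
    (hi : UniversallyInjective (Spec.map (CommRingCat.ofHom (algebraMap A B)))) :
    UniversallyInjective (Spec.map (CommRingCat.ofHom (algebraMap A B'))) := by
  haveI := subalgebra_surjective B' hc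
  haveI : UniversallyInjective (Spec.map (CommRingCat.ofHom (algebraMap B' B)) ≫
      Spec.map (CommRingCat.ofHom (algebraMap A B'))) := by rw [subalgebra_factor]; exact hi
  exact universallyInjective_of_surjective_comp (Spec.map (CommRingCat.ofHom (algebraMap B' B))) _

lemma subalgebra_isUnivHomeo (B' : Subalgebra A B)
    (h : FlatMor.IsUnivHomeo (Spec.map (CommRingCat.ofHom (algebraMap A B)))) :
    FlatMor.IsUnivHomeo (Spec.map (CommRingCat.ofHom (algebraMap A B'))) := by
  haveI := subalgebra_universallyClosed B' (universallyClosed_of_isUnivHomeo _ h)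
  haveI := subalgebra_universallyInjective B' (universallyClosed_of_isUnivHomeo _ h)
    (universallyInjective_of_isUnivHomeo _ h)
  haveI : Surjective (Spec.map (CommRingCat.ofHom (algebraMap B' B)) ≫
      Spec.map (CommRingCat.ofHom (algebraMap A B'))) := by
    rw [subalgebra_factor]; exact surjective_of_isUnivHomeo _ h
  haveI : Surjective (Spec.map (CommRingCat.ofHom (algebraMap A B'))) :=
    Surjective.of_comp (Spec.map (CommRingCat.ofHom (algebraMap B' B))) _
  haveI : IsIntegralHom (Spec.map (CommRingCat.ofHom (algebraMap A B'))) :=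
    IsIntegralHom.SpecMap_iff.mpr ((isIntegral_iff_universallyClosed _).1 inferInstance)
  exact Groth.Agent.EtaPtLib.isUnivHomeo_of_isIntegralHom _

lemma subalgebra_residueFieldMap_surjective (B' : Subalgebra A B)
    (hc : UniversallyClosed (Spec.map (CommRingCat.ofHom (algebraMap A B))))
    (h : ∀ x : Spec (CommRingCat.of B),
      Function.Surjective ((Spec.map (CommRingCat.ofHom (algebraMap A B))).residueFieldMap x)) :
    ∀ x : Spec (CommRingCat.of B'),
      Function.Surjective ((Spec.map (CommRingCat.ofHom (algebraMap A B'))).residueFieldMap x) := by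
  rw [residueFieldMap_surjective_iff] at h ⊢
  intro Q hQ d
  obtain ⟨Q', hQ'⟩ := (subalgebra_surjective B' hc).surj ⟨Q, hQ⟩
  obtain ⟨t, a, ht, hta⟩ := h (Q' : PrimeSpectrum B).asIdeal inferInstance (d : B)
  have : Q = ((Q' : PrimeSpectrum B).asIdeal).comap (algebraMap B' B) :=
    (congrArg PrimeSpectrum.asIdeal hQ').symm
  subst this
  exact ⟨t, a, ht, hta⟩

end Tower
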