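import Groth.Agent.Tower.Elementary
import Groth.Agent.Tower.Present

/-!
Relative (semi)normalisation: the union of all towers inside `B`.
-/

set_option autoImplicit false
set_option backward.isDefEq.respectTransparency false
set_option linter.style.haveILetI false

universe u

open CategoryTheory AlgebraicGeometry

namespace Tower

variable {A B : Type u} [CommRing A] [CommRing B] [Algebra A B]

lemma IsTower.map {C : Type u} [CommRing C] [Algebra A C] (g : C →ₐ[A] B)
    {st : C → Subalgebra A C → Prop} {st' : B → Subalgebra A B → Prop}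
    (hst : ∀ c S, st c S → st' (g c) (S.map g)) {l : List C} (h : IsTower st l) :
    IsTower st' (l.map g) := by
  intro i hi
  rw [List.length_map] at hi
  have := hst _ _ (h i hi)
  rw [gen_map, List.map_take] at this
  simpa using this

lemma range_le_closure {C : Type u} [CommRing C] [Algebra A C] (g : C →ₐ[A] B)
    {st : C → Subalgebra A C → Prop} {st' : B → Subalgebra A B → Prop}
    (hst' : ∀ b S T, S ≤ T → st' b S → st' b T)
    (hst : ∀ c S, st c S → st' (g c) (S.map g))
    (h : ∀ E : Finset C, ∃ l : List C, (↑E : Set C) ⊆ (gen A l : Subalgebra A C) ∧ IsTower st l) :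
    g.range ≤ closure st' hst' := by
  rintro _ ⟨c, rfl⟩
  obtain ⟨l, hl, ht⟩ := h {c}
  refine ⟨l.map g, ht.map g hst, ?_⟩
  rw [← gen_map]
  exact ⟨c, hl (by simp), rfl⟩

lemma sqCube_map {C : Type u} [CommRing C] [Algebra A C] (g : C →ₐ[A] B) (c : C) (S : Subalgebra A C)
    (h : SqCube c S) : SqCube (g c) (S.map g) :=
  ⟨⟨_, h.1, map_pow g c 2⟩, ⟨_, h.2, map_pow g c 3⟩⟩

lemma sqCubeOrPrime_map {C : Type u} [CommRing C] [Algebra A C] (g : C →ₐ[A] B) (c : C)
    (S : Subalgebra A C) (h : SqCubeOrPrime c S) : SqCubeOrPrime (g c) (S.map g) := by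
  rcases h with ⟨h2, h3⟩ | ⟨p, hp, h1, h2⟩
  · exact Or.inl ⟨⟨_, h2, map_pow g c 2⟩, ⟨_, h3, map_pow g c 3⟩⟩
  · exact Or.inr ⟨p, hp, ⟨_, h1, by simp⟩, ⟨_, h2, map_pow g c p⟩⟩

lemma closure_towers {st : B → Subalgebra A B → Prop} (hst : ∀ b S T, S ≤ T → st b S → st b T)
    {st' : closure st hst → Subalgebra A (closure st hst) → Prop}
    (h : ∀ (c : closure st hst) S, st (c : B) (S.map (closure st hst).val) → st' c S)
    (E : Finset (closure st hst)) :
    ∃ l : List (closure st hst), (↑E : Set (closure st hst)) ⊆ (gen A l : Subalgebra A (closure st hst)) ∧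
      IsTower st' l := by
  classical
  obtain ⟨l, hl, hE⟩ := exists_tower_of_finset hst (E.image (fun x : closure st hst => (x : B))) (by
    intro e he
    obtain ⟨x, -, rfl⟩ := Finset.mem_image.1 he
    exact x.2)
  have hmem : ∀ b ∈ l, b ∈ closure st hst := fun b hb => ⟨l, hl, Algebra.subset_adjoin hb⟩
  let l' : List (closure st hst) := l.attach.map fun b => ⟨b.1, hmem b.1 b.2⟩
  have hl' : l'.map (closure st hst).val = l := by
    simp only [l', List.map_map]
    exact List.attach_map_subtype_val l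
  refine ⟨l', fun x hx => ?_, fun i hi => h _ _ ?_⟩
  · have h1 := hE x (Finset.mem_image_of_mem _ hx)
    rw [← hl', ← gen_map] at h1
    obtain ⟨y, hy, hyx⟩ := h1
    rwa [← Subtype.ext (a1 := y) (a2 := x) hyx]
  · rw [gen_map, List.map_take, hl']
    have hi' : i < l.length := by rw [← hl', List.length_map]; exact hi
    have : ((l'[i] : closure st hst) : B) = l[i] := by simp [l']
    rw [this]
    exact hl i hi'

lemma isUnivHomeo_closure {st : B → Subalgebra A B → Prop} (hst : ∀ b S T, S ≤ T → st b S → st b T)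
    [IsDominant (Spec.map (CommRingCat.ofHom (algebraMap A B)))]
    {st' : closure st hst → Subalgebra A (closure st hst) → Prop}
    (hst' : ∀ b S T, S ≤ T → st' b S → st' b T)
    (h : ∀ (c : closure st hst) S, st (c : B) (S.map (closure st hst).val) → st' c S)
    (hint : ∀ (b : closure st hst) S, st' b S → ∃ n, 0 < n ∧ b ^ n ∈ S)
    (hK : ∀ (K : Type u) [Field K] (g g' : closure st hst →+* K) (b : closure st hst) S,
      (∀ x ∈ S, g x = g' x) → st' b S → g b = g' b) :
    FlatMor.IsUnivHomeo (Spec.map (CommRingCat.ofHom (algebraMap A (closure st hst)))) := by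
  have ht := closure_towers hst h
  haveI : Algebra.IsIntegral A (closure st hst) := ⟨fun b => by
    have := eq_top_of_towers hst' ht (integralClosure A (closure st hst)) fun c hc => by
      obtain ⟨n, hn, hcn⟩ := hint c _ hc
      exact IsIntegral.of_pow hn hcn
    exact (this.symm ▸ Algebra.mem_top : b ∈ integralClosure A (closure st hst))⟩
  haveI : IsIntegralHom (Spec.map (CommRingCat.ofHom (algebraMap A (closure st hst)))) :=
    IsIntegralHom.SpecMap_iff.mpr (algebraMap_isIntegral_iff.mpr inferInstance)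
  haveI : IsDominant (Spec.map (CommRingCat.ofHom (algebraMap (closure st hst) B)) ≫
      Spec.map (CommRingCat.ofHom (algebraMap A (closure st hst)))) := by
    rw [subalgebra_factor]; infer_instance
  haveI : IsDominant (Spec.map (CommRingCat.ofHom (algebraMap A (closure st hst)))) :=
    IsDominant.of_comp (Spec.map (CommRingCat.ofHom (algebraMap (closure st hst) B))) _
  haveI : Surjective (Spec.map (CommRingCat.ofHom (algebraMap A (closure st hst)))) := ⟨by
    intro P
    have hc := (Spec.map (CommRingCat.ofHom (algebraMap A (closure st hst)))).isClosedMap.isClosed_range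
    have hd := (Spec.map (CommRingCat.ofHom (algebraMap A (closure st hst)))).denseRange.closure_range
    rw [hc.closure_eq] at hd
    exact hd.ge trivial⟩
  haveI := universallyInjective_of_towers hst' ht hK
  exact Groth.Agent.EtaPtLib.isUnivHomeo_of_isIntegralHom _

theorem exists_weakNormalization [IsDominant (Spec.map (CommRingCat.ofHom (algebraMap A B)))] :
    ∃ B' : Subalgebra A B, FlatMor.IsUnivHomeo (Spec.map (CommRingCat.ofHom (algebraMap A B'))) ∧
      ∀ (C : Type u) [CommRing C] [Algebra A C] (g : C →ₐ[A] B),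
        FlatMor.IsUnivHomeo (Spec.map (CommRingCat.ofHom (algebraMap A C))) → g.range ≤ B' := by
  refine ⟨closure SqCubeOrPrime sqCubeOrPrime_mono,
    isUnivHomeo_closure (A := A) (st' := SqCubeOrPrime) sqCubeOrPrime_mono sqCubeOrPrime_mono ?_
      (fun b S hb => hb.elim (fun hb => ⟨2, two_pos, hb.1⟩) fun ⟨p, hp, _, hb⟩ => ⟨p, hp.pos, hb⟩)
      (fun K _ g g' b S hS hb => eq_of_eq_on_sqCubeOrPrime g g' hS hb),
    fun C _ _ g hC => range_le_closure g sqCubeOrPrime_mono (sqCubeOrPrime_map g) (towers_of_isUnivHomeo hC)⟩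
  intro c S hc
  rcases hc with ⟨⟨y, hy, h2⟩, ⟨z, hz, h3⟩⟩ | ⟨p, hp, ⟨y, hy, h1⟩, ⟨z, hz, h2⟩⟩
  · left
    rw [← Subtype.ext (a1 := y) (a2 := c ^ 2) (h2.trans (by simp)), ← Subtype.ext (a1 := z) (a2 := c ^ 3) (h3.trans (by simp))]
    exact ⟨hy, hz⟩
  · right
    refine ⟨p, hp, ?_⟩
    rw [← Subtype.ext (a1 := y) (a2 := (p : closure SqCubeOrPrime sqCubeOrPrime_mono) * c) (h1.trans (by simp)),
      ← Subtype.ext (a1 := z) (a2 := c ^ p) (h2.trans (by simp))]
    exact ⟨hy, hz⟩

theorem exists_seminormalization [IsDominant (Spec.map (CommRingCat.ofHom (algebraMap A B)))] :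
    ∃ B' : Subalgebra A B, (FlatMor.IsUnivHomeo (Spec.map (CommRingCat.ofHom (algebraMap A B'))) ∧
      ∀ x : Spec (CommRingCat.of B'),
        Function.Surjective ((Spec.map (CommRingCat.ofHom (algebraMap A B'))).residueFieldMap x)) ∧
      ∀ (C : Type u) [CommRing C] [Algebra A C] (g : C →ₐ[A] B),
        FlatMor.IsUnivHomeo (Spec.map (CommRingCat.ofHom (algebraMap A C))) →
        (∀ x : Spec (CommRingCat.of C),
          Function.Surjective ((Spec.map (CommRingCat.ofHom (algebraMap A C))).residueFieldMap x)) →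
        g.range ≤ B' := by
  have h : ∀ (c : closure (A := A) (B := B) SqCube sqCube_mono) (S : Subalgebra A _),
      SqCube (c : B) (S.map (closure (A := A) SqCube sqCube_mono).val) → SqCube c S := by
    rintro c S ⟨⟨y, hy, h2⟩, ⟨z, hz, h3⟩⟩
    rw [SqCube, ← Subtype.ext (a1 := y) (a2 := c ^ 2) (h2.trans (by simp)),
      ← Subtype.ext (a1 := z) (a2 := c ^ 3) (h3.trans (by simp))]
    exact ⟨hy, hz⟩
  exact ⟨closure SqCube sqCube_mono,
    ⟨isUnivHomeo_closure (A := A) (st' := SqCube) sqCube_mono sqCube_mono h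
      (fun b S hb => ⟨2, two_pos, hb.1⟩) (fun K _ g g' b S hS hb => eq_of_eq_on_sqCube g g' hS hb),
      residueFieldMap_surjective_of_towers (closure_towers sqCube_mono h)⟩,
    fun C _ _ g hC hres => range_le_closure g sqCube_mono (sqCube_map g)
      (towers_of_isUnivHomeo_of_surjective hC hres)⟩

end Tower
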