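import Groth.Agent.Tower.Present

/-!
A ring map inducing a universal homeomorphism is a filtered colimit of finitely presented ones
with the same property.
-/

set_option autoImplicit false
set_option backward.isDefEq.respectTransparency false

universe u

open CategoryTheory CategoryTheory.Limits AlgebraicGeometry MvPolynomial

namespace Tower

variable {A B : Type u} [CommRing A] [CommRing B] [Algebra A B]


namespace PresentP

/-- Evaluation of polynomials in the variables `V ⊆ B`. -/
noncomputable def ev (A : Type u) {B : Type u} [CommRing A] [CommRing B] [Algebra A B]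
    (V : Finset B) : MvPolynomial V A →ₐ[A] B :=
  aeval Subtype.val

/-- Renaming along an inclusion of variables. -/
noncomputable def ren (A : Type u) {B : Type u} [CommRing A] [CommRing B] [Algebra A B]
    {V V' : Finset B} (h : V ⊆ V') : MvPolynomial V A →ₐ[A] MvPolynomial V' A :=
  rename fun v => ⟨v.1, h v.2⟩

lemma ev_ren {V V' : Finset B} (h : V ⊆ V') (p : MvPolynomial V A) :
    ev A V' (ren A h p) = ev A V p := by
  rw [ev, ren, aeval_rename]; rfl

lemma ren_ren {V V' V'' : Finset B} (h : V ⊆ V') (h' : V' ⊆ V'') (p : MvPolynomial V A) :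
    ren A h' (ren A h p) = ren A (h.trans h') p := by
  rw [ren, ren, ren, rename_rename]; rfl

lemma ren_self {V : Finset B} (h : V ⊆ V) (p : MvPolynomial V A) : ren A h p = p := by
  rw [ren]; exact rename_id_apply p

/-- A finitely presented approximation of `B` having a tower. -/
structure Idx (A B : Type u) [CommRing A] [CommRing B] [Algebra A B] where
  V : Finset B
  S : Finset (MvPolynomial V A)
  ker : ∀ s ∈ S, ev A V s = 0
  good : closure (A := A) (B := MvPolynomial V A ⧸ Ideal.span (S : Set (MvPolynomial V A)))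
    SqCubeOrPrime sqCubeOrPrime_mono = ⊤

instance : Preorder (Idx A B) where
  le i j := ∃ h : i.V ⊆ j.V, ∀ s ∈ i.S, ren A h s ∈ j.S
  le_refl i := ⟨subset_rfl, fun s hs => by rwa [ren_self]⟩
  le_trans i j k := fun ⟨h, hs⟩ ⟨h', hs'⟩ =>
    ⟨h.trans h', fun s hm => ren_ren h h' s ▸ hs' _ (hs s hm)⟩

/-- The algebra of an index. -/
abbrev Ring (i : Idx A B) : Type u :=
  MvPolynomial i.V A ⧸ Ideal.span (i.S : Set (MvPolynomial i.V A))

/-- The map to `B`. -/
noncomputable def out (i : Idx A B) : Ring i →ₐ[A] B :=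
  Ideal.Quotient.liftₐ _ (ev A i.V)
    fun x hx => (Ideal.span_le.mpr fun s hs => i.ker s hs : Ideal.span _ ≤ RingHom.ker (ev A i.V)) hx

lemma out_mk (i : Idx A B) (p : MvPolynomial i.V A) :
    out i (Ideal.Quotient.mkₐ A _ p) = ev A i.V p :=
  rfl

/-- The transition maps. -/
noncomputable def trans {i j : Idx A B} (h : i ≤ j) : Ring i →ₐ[A] Ring j :=
  Ideal.Quotient.liftₐ _ ((Ideal.Quotient.mkₐ A _).comp (ren A h.1))
    fun x hx => (Ideal.span_le.mpr fun s hs =>
      Ideal.Quotient.eq_zero_iff_mem.mpr (Ideal.subset_span (h.2 s hs)) :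
      Ideal.span _ ≤ RingHom.ker ((Ideal.Quotient.mkₐ A _).comp (ren A h.1))) hx

lemma trans_mk {i j : Idx A B} (h : i ≤ j) (p : MvPolynomial i.V A) :
    trans h (Ideal.Quotient.mkₐ A _ p) = Ideal.Quotient.mkₐ A _ (ren A h.1 p) :=
  rfl

lemma out_trans {i j : Idx A B} (h : i ≤ j) (x : Ring i) : out j (trans h x) = out i x := by
  obtain ⟨p, rfl⟩ := Ideal.Quotient.mkₐ_surjective A _ x
  rw [trans_mk, out_mk, out_mk, ev_ren]

theorem exists_refine
    (htow : ∀ E : Finset B, ∃ l : List B, (↑E : Set B) ⊆ (gen A l : Subalgebra A B) ∧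
      IsTower (A := A) SqCubeOrPrime l)
    (V₀ : Finset B) (S₀ : Finset (MvPolynomial V₀ A)) (h₀ : ∀ s ∈ S₀, ev A V₀ s = 0) :
    ∃ (i : Idx A B) (h : V₀ ⊆ i.V), ∀ s ∈ S₀, ren A h s ∈ i.S := by
  classical
  obtain ⟨l, hV₀, hl⟩ := htow V₀
  set V := V₀ ∪ l.toFinset with hV
  set L : List (MvPolynomial V A) := l.attach.map fun b => X ⟨b.1, Finset.mem_union_right _
    (List.mem_toFinset.mpr b.2)⟩ with hL
  have hev : L.map (ev A V) = l := by
    rw [hL, List.map_map]
    have : (ev A V ∘ fun b : { x // x ∈ l } => X ⟨b.1, Finset.mem_union_right _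
        (List.mem_toFinset.mpr b.2)⟩) = Subtype.val := funext fun b => by
      simp [ev]
    rw [this, List.attach_map_subtype_val]
  have hlen : L.length = l.length := by rw [hL, List.length_map, List.length_attach]
  have hget : ∀ (i : ℕ) (h : i < L.length), ev A V L[i] = l[i]'(hlen ▸ h) := by
    intro i h
    simp [hL, ev]
  have hlift : ∀ (i : ℕ) (x : B), x ∈ gen A (l.take i) →
      ∃ y ∈ gen A (L.take i), ev A V y = x := by
    intro i x hx
    rw [← hev, ← List.map_take, ← gen_map] at hx
    exact hx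
  have hrel : ∀ i : Fin L.length, ∃ R : Finset (MvPolynomial V A), (∀ r ∈ R, ev A V r = 0) ∧
      ∀ (C : Type u) [CommRing C] [Algebra A C] (q : MvPolynomial V A →ₐ[A] C),
        (∀ r ∈ R, q r = 0) → SqCubeOrPrime (q L[i.1]) ((gen A (L.take i)).map q) := by
    intro i
    rcases hl i (hlen ▸ i.2) with ⟨h2, h3⟩ | ⟨p, hp, h1, h2⟩
    · obtain ⟨y2, hy2, hy2'⟩ := hlift _ _ h2
      obtain ⟨y3, hy3, hy3'⟩ := hlift _ _ h3
      refine ⟨{y2 - L[i.1] ^ 2, y3 - L[i.1] ^ 3}, ?_, fun C _ _ q hq => Or.inl
        ⟨⟨y2, hy2, ?_⟩, ⟨y3, hy3, ?_⟩⟩⟩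
      · intro r hr
        rcases Finset.mem_insert.mp hr with rfl | hr
        · rw [map_sub, map_pow, hy2', hget, sub_self]
        · rw [Finset.mem_singleton.mp hr, map_sub, map_pow, hy3', hget, sub_self]
      · rw [← map_pow, ← sub_eq_zero]
        exact (map_sub q _ _).symm.trans (hq _ (Finset.mem_insert_self _ _))
      · rw [← map_pow, ← sub_eq_zero]
        exact (map_sub q _ _).symm.trans
          (hq _ (Finset.mem_insert_of_mem (Finset.mem_singleton_self _)))
    · obtain ⟨y1, hy1, hy1'⟩ := hlift _ _ h1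
      obtain ⟨y2, hy2, hy2'⟩ := hlift _ _ h2
      refine ⟨{y1 - (p : MvPolynomial V A) * L[i.1], y2 - L[i.1] ^ p}, ?_, fun C _ _ q hq =>
        Or.inr ⟨p, hp, ⟨y1, hy1, ?_⟩, ⟨y2, hy2, ?_⟩⟩⟩
      · intro r hr
        rcases Finset.mem_insert.mp hr with rfl | hr
        · rw [map_sub, map_mul, map_natCast, hy1', hget, sub_self]
        · rw [Finset.mem_singleton.mp hr, map_sub, map_pow, hy2', hget, sub_self]
      · rw [← map_natCast q, ← map_mul, ← sub_eq_zero]
        exact (map_sub q _ _).symm.trans (hq _ (Finset.mem_insert_self _ _))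
      · rw [← map_pow, ← sub_eq_zero]
        exact (map_sub q _ _).symm.trans
          (hq _ (Finset.mem_insert_of_mem (Finset.mem_singleton_self _)))
  choose R hR hRst using hrel
  have hVgen : ∀ v : V, ∃ y ∈ gen A L, ev A V y = v.1 := by
    intro v
    have : v.1 ∈ gen A (l.take l.length) := by
      rw [List.take_length]
      rcases Finset.mem_union.mp v.2 with h | h
      · exact hV₀ h
      · exact Algebra.subset_adjoin (List.mem_toFinset.mp h)
    obtain ⟨y, hy, hy'⟩ := hlift _ _ this
    exact ⟨y, gen_mono (List.take_subset _ _) hy, hy'⟩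
  choose yV hyV hyV' using hVgen
  set S : Finset (MvPolynomial V A) :=
    (S₀.image (ren A Finset.subset_union_left) ∪ Finset.univ.biUnion R) ∪
      Finset.univ.image fun v => X v - yV v with hS
  set q := Ideal.Quotient.mkₐ A (Ideal.span (S : Set (MvPolynomial V A))) with hq
  have hqS : ∀ a b, a - b ∈ S → q a = q b := fun a b h =>
    Ideal.Quotient.eq.mpr (Ideal.subset_span h)
  have htower : IsTower (A := A) SqCubeOrPrime (L.map q) := by
    intro i hi
    rw [List.length_map] at hi
    rw [List.getElem_map, ← List.map_take, ← gen_map]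
    exact hRst ⟨i, hi⟩ _ q fun r hr => Ideal.Quotient.eq_zero_iff_mem.mpr (Ideal.subset_span
      (Finset.mem_union_left _ (Finset.mem_union_right _
        (Finset.mem_biUnion.mpr ⟨⟨i, hi⟩, Finset.mem_univ _, hr⟩))))
  have hgood : closure (A := A) SqCubeOrPrime sqCubeOrPrime_mono
      (B := MvPolynomial V A ⧸ Ideal.span (S : Set (MvPolynomial V A))) = ⊤ := by
    refine eq_top_iff.mpr fun z _ => ⟨L.map q, htower, ?_⟩
    obtain ⟨p, rfl⟩ := Ideal.Quotient.mkₐ_surjective A _ z
    have key : (⊤ : Subalgebra A (MvPolynomial V A)) ≤ (gen A (L.map q)).comap q := by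
      rw [← MvPolynomial.adjoin_range_X, Algebra.adjoin_le_iff]
      rintro _ ⟨v, rfl⟩
      show q (X v) ∈ gen A (L.map q)
      rw [hqS (X v) (yV v) (Finset.mem_union_right _
        (Finset.mem_image.mpr ⟨v, Finset.mem_univ _, rfl⟩)), ← gen_map]
      exact ⟨yV v, hyV v, rfl⟩
    exact key Algebra.mem_top
  refine ⟨⟨V, S, ?_, hgood⟩, Finset.subset_union_left, fun s hs => ?_⟩
  · intro s hs
    simp only [hS, Finset.mem_union, Finset.mem_image, Finset.mem_univ, true_and] at hs
    rcases hs with (⟨s₀, hs₀, rfl⟩ | hs) | ⟨v, rfl⟩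
    · rw [ev_ren, h₀ s₀ hs₀]
    · simp only [Finset.mem_biUnion, Finset.mem_univ, true_and] at hs
      obtain ⟨i, hi⟩ := hs
      exact hR i s hi
    · rw [map_sub, hyV', ev, aeval_X, sub_self]
  · exact Finset.mem_union_left _ (Finset.mem_union_left _
      (Finset.mem_image.mpr ⟨s, hs, rfl⟩))

lemma isDirected
    (htow : ∀ E : Finset B, ∃ l : List B, (↑E : Set B) ⊆ (gen A l : Subalgebra A B) ∧
      IsTower (A := A) SqCubeOrPrime l) : IsDirected (Idx A B) (· ≤ ·) := by
  classical
  refine ⟨fun i j => ?_⟩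
  obtain ⟨k, h, hs⟩ := exists_refine htow (i.V ∪ j.V)
    (i.S.image (ren A Finset.subset_union_left) ∪ j.S.image (ren A Finset.subset_union_right))
    (by
      intro s hs
      simp only [Finset.mem_union, Finset.mem_image] at hs
      rcases hs with ⟨t, ht, rfl⟩ | ⟨t, ht, rfl⟩
      · rw [ev_ren, i.ker t ht]
      · rw [ev_ren, j.ker t ht])
  refine ⟨k, ⟨Finset.subset_union_left.trans h, fun t ht => ?_⟩,
    ⟨Finset.subset_union_right.trans h, fun t ht => ?_⟩⟩
  · rw [← ren_ren Finset.subset_union_left h]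
    exact hs _ (Finset.mem_union_left _ (Finset.mem_image.mpr ⟨t, ht, rfl⟩))
  · rw [← ren_ren Finset.subset_union_right h]
    exact hs _ (Finset.mem_union_right _ (Finset.mem_image.mpr ⟨t, ht, rfl⟩))

variable (A B)

/-- The diagram. -/
noncomputable def diagram : Idx A B ⥤ Under (CommRingCat.of A) where
  obj i := Under.mk (CommRingCat.ofHom (algebraMap A (Ring i)))
  map {i j} f := Under.homMk (CommRingCat.ofHom (trans (leOfHom f)).toRingHom)
    (CommRingCat.hom_ext (RingHom.ext fun a => (trans (leOfHom f)).commutes a))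
  map_id i := Under.UnderMorphism.ext (CommRingCat.hom_ext (RingHom.ext fun x => by
    obtain ⟨p, rfl⟩ := Ideal.Quotient.mkₐ_surjective A _ x
    show trans (le_refl i) (Ideal.Quotient.mkₐ A _ p) = Ideal.Quotient.mkₐ A _ p
    rw [trans_mk, ren_self]))
  map_comp {i j k} f g := Under.UnderMorphism.ext (CommRingCat.hom_ext (RingHom.ext fun x => by
    obtain ⟨p, rfl⟩ := Ideal.Quotient.mkₐ_surjective A _ x
    show trans ((leOfHom f).trans (leOfHom g)) (Ideal.Quotient.mkₐ A _ p) =
      trans (leOfHom g) (trans (leOfHom f) (Ideal.Quotient.mkₐ A _ p))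
    rw [trans_mk, trans_mk, trans_mk, ren_ren]))

/-- The cocone with point `B`. -/
noncomputable def cocone : Cocone (diagram A B) where
  pt := Under.mk (CommRingCat.ofHom (algebraMap A B))
  ι :=
    { app := fun i => Under.homMk (CommRingCat.ofHom (out i).toRingHom)
        (CommRingCat.hom_ext (RingHom.ext fun a => (out i).commutes a))
      naturality := fun i j f => Under.UnderMorphism.ext (CommRingCat.hom_ext
        (RingHom.ext fun x => out_trans (leOfHom f) x)) }

/-- `B` is the colimit. -/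
theorem nonempty_isColimit
    (htow : ∀ E : Finset B, ∃ l : List B, (↑E : Set B) ⊆ (gen A l : Subalgebra A B) ∧
      IsTower (A := A) SqCubeOrPrime l) : Nonempty (IsColimit (cocone A B)) := by
  classical
  haveI := isDirected htow
  haveI : Nonempty (Idx A B) := ⟨(exists_refine htow ∅ ∅ (by simp)).choose⟩
  haveI : IsFiltered (Idx A B) := inferInstance
  haveI : ReflectsColimitsOfShape (Idx A B)
      (Under.forget (CommRingCat.of A) ⋙ forget CommRingCat.{u}) :=
    reflectsColimitsOfShape_of_reflectsIsomorphisms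
  refine ⟨isColimitOfReflects (Under.forget (CommRingCat.of A) ⋙ forget CommRingCat.{u}) ?_⟩
  refine Types.FilteredColimit.isColimitOf _ _ ?_ ?_
  · intro b
    obtain ⟨i, h, -⟩ := exists_refine htow {b} ∅ (by simp)
    refine ⟨i, Ideal.Quotient.mkₐ A _ (X ⟨b, h (Finset.mem_singleton_self b)⟩), ?_⟩
    show b = out i (Ideal.Quotient.mkₐ A _ (X ⟨b, h (Finset.mem_singleton_self b)⟩))
    rw [out_mk, ev, aeval_X]
  · intro i j (x : Ring i) (y : Ring j) (hxy : out i x = out j y)
    obtain ⟨k, hik, hjk⟩ := directed_of (· ≤ ·) i j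
    obtain ⟨p, hp⟩ := Ideal.Quotient.mkₐ_surjective A _ (trans hik x - trans hjk y)
    have hp0 : ev A k.V p = 0 := by
      rw [← out_mk, hp, map_sub, out_trans, out_trans, hxy, sub_self]
    obtain ⟨l, h, hs⟩ := exists_refine htow k.V (insert p k.S) (by
      intro s hs
      rcases Finset.mem_insert.mp hs with rfl | hs
      · exact hp0
      · exact k.ker s hs)
    have hkl : k ≤ l := ⟨h, fun s hs' => hs s (Finset.mem_insert_of_mem hs')⟩
    refine ⟨l, homOfLE (hik.trans hkl), homOfLE (hjk.trans hkl), ?_⟩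
    show trans (hik.trans hkl) x = trans (hjk.trans hkl) y
    have e : ∀ {i' : Idx A B} (h' : i' ≤ k) (z : Ring i'),
        trans (h'.trans hkl) z = trans hkl (trans h' z) := by
      intro i' h' z
      obtain ⟨r, rfl⟩ := Ideal.Quotient.mkₐ_surjective A _ z
      rw [trans_mk, trans_mk, trans_mk, ren_ren]
    rw [e hik, e hjk, ← sub_eq_zero, ← map_sub, ← hp, trans_mk]
    exact Ideal.Quotient.eq_zero_iff_mem.mpr (Ideal.subset_span (hs p (Finset.mem_insert_self p _)))

variable {A B}

lemma finitePresentation (i : Idx A B) :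
    (algebraMap A (Ring i)).FinitePresentation := by
  rw [RingHom.finitePresentation_algebraMap]
  exact Algebra.FinitePresentation.quotient ⟨i.S, rfl⟩

lemma isUnivHomeo (i : Idx A B)
    (hsurj : Function.Surjective (PrimeSpectrum.comap (algebraMap A B))) :
    FlatMor.IsUnivHomeo (Spec.map (CommRingCat.ofHom (algebraMap A (Ring i)))) := by
  have h : ∀ E : Finset (Ring i), ∃ l : List (Ring i),
      (↑E : Set (Ring i)) ⊆ (gen A l : Subalgebra A (Ring i)) ∧ IsTower (A := A) SqCubeOrPrime l :=
    exists_finset_tower (hst := sqCubeOrPrime_mono) i.good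
  haveI : Algebra.IsIntegral A (Ring i) := ⟨fun b => by
    have := eq_top_of_towers sqCubeOrPrime_mono h (integralClosure A (Ring i))
      fun c hc => by
        rcases hc with hc | ⟨p, hp, -, hc⟩
        · exact IsIntegral.of_pow two_pos hc.1
        · exact IsIntegral.of_pow hp.pos hc
    exact (this.symm ▸ Algebra.mem_top : b ∈ integralClosure A (Ring i))⟩
  haveI : IsIntegralHom (Spec.map (CommRingCat.ofHom (algebraMap A (Ring i)))) :=
    IsIntegralHom.SpecMap_iff.mpr (algebraMap_isIntegral_iff.mpr inferInstance)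
  haveI : Surjective (Spec.map (CommRingCat.ofHom (algebraMap A (Ring i)))) := ⟨fun P => by
    obtain ⟨Q, hQ⟩ := hsurj P
    refine ⟨PrimeSpectrum.comap (out i).toRingHom Q, ?_⟩
    rw [← hQ, ← (out i).comp_algebraMap]
    rfl⟩
  haveI := universallyInjective_of_towers (A := A) (B := Ring i) sqCubeOrPrime_mono h
    (fun K _ g g' b S hS hb => eq_of_eq_on_sqCubeOrPrime g g' hS hb)
  exact Groth.Agent.EtaPtLib.isUnivHomeo_of_isIntegralHom _

end PresentP

end Tower
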