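import Mathlib

/-!
Towers of elementary extensions `A[b₁,…,bₙ] ⊆ B` and the criterion for a subalgebra closed under
such steps to be everything (seminormality argument, no noetherian hypothesis).
-/

set_option autoImplicit false

universe u v

namespace Tower

variable {A : Type u} {B : Type v} [CommRing A] [CommRing B] [Algebra A B]

/-- The subalgebra generated by a list. -/
def gen (A : Type u) {B : Type v} [CommRing A] [CommRing B] [Algebra A B] (l : List B) :
    Subalgebra A B :=
  Algebra.adjoin A {b : B | b ∈ l}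

/-- `st` holds at each entry of `l` over the algebra generated by the earlier entries. -/
def IsTower (st : B → Subalgebra A B → Prop) (l : List B) : Prop :=
  ∀ (i : ℕ) (h : i < l.length), st l[i] (gen A (l.take i))

lemma gen_mono {l l' : List B} (h : l ⊆ l') : gen A l ≤ gen A l' :=
  Algebra.adjoin_mono fun _ hx => h hx

lemma isTower_iff (st : B → Subalgebra A B → Prop) (l : List B) :
    IsTower st l ↔ ∀ i : Fin l.length,
      st (l.get i) (Algebra.adjoin A {b : B | ∃ j : Fin l.length, j < i ∧ b = l.get j}) := by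
  have key : ∀ i : Fin l.length,
      {b : B | ∃ j : Fin l.length, j < i ∧ b = l.get j} = {b : B | b ∈ l.take i} := by
    intro i
    ext b
    simp only [Set.mem_setOf_eq, List.mem_take_iff_getElem]
    constructor
    · rintro ⟨j, hj, rfl⟩
      exact ⟨j, lt_min hj j.2, rfl⟩
    · rintro ⟨j, hj, rfl⟩
      exact ⟨⟨j, hj.trans_le (min_le_right _ _)⟩, hj.trans_le (min_le_left _ _), rfl⟩
  simp only [key]
  exact ⟨fun h i => h i i.2, fun h i hi => h ⟨i, hi⟩⟩

lemma IsTower.append {st : B → Subalgebra A B → Prop}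
    (hst : ∀ b S T, S ≤ T → st b S → st b T) {l₁ l₂ : List B}
    (h₁ : IsTower st l₁) (h₂ : IsTower st l₂) : IsTower st (l₁ ++ l₂) := by
  intro i hi
  rcases lt_or_ge i l₁.length with h | h
  · rw [List.getElem_append_left h, List.take_append_of_le_length h.le]
    exact h₁ i h
  · rw [List.getElem_append_right h]
    refine hst _ _ _ (gen_mono fun x hx => ?_) (h₂ (i - l₁.length) (by
      rw [List.length_append] at hi; omega))
    rw [List.take_append]
    exact List.mem_append_right _ hx

lemma IsTower.snoc {st : B → Subalgebra A B → Prop} {l : List B} {b : B}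
    (h : IsTower st l) (hb : st b (gen A l)) : IsTower st (l ++ [b]) := by
  intro i hi
  rw [List.length_append, List.length_singleton] at hi
  rcases Nat.lt_succ_iff_lt_or_eq.mp hi with h' | rfl
  · rw [List.getElem_append_left h', List.take_append_of_le_length h'.le]
    exact h i h'
  · rw [List.getElem_append_right le_rfl, List.take_append_of_le_length le_rfl, List.take_length]
    simpa using hb

/-- Every entry of a tower lies in any subalgebra closed under the steps. -/
lemma IsTower.gen_le {st : B → Subalgebra A B → Prop}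
    (hst : ∀ b S T, S ≤ T → st b S → st b T) (S : Subalgebra A B)
    (hS : ∀ b, st b S → b ∈ S) {l : List B} (h : IsTower st l) : gen A l ≤ S := by
  have key : ∀ n, gen A (l.take n) ≤ S := by
    intro n
    induction n with
    | zero => exact Algebra.adjoin_le (by simp)
    | succ n ih =>
      refine Algebra.adjoin_le fun x (hx : x ∈ l.take (n + 1)) => ?_
      rcases lt_or_ge n l.length with hn | hn
      · rw [← List.take_append_getElem hn, List.mem_append, List.mem_singleton] at hx
        rcases hx with hx | rfl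
        · exact ih (Algebra.subset_adjoin hx)
        · exact hS _ (hst _ _ _ ih (h n hn))
      · rw [List.take_of_length_le (by omega : l.length ≤ n + 1)] at hx
        refine ih (Algebra.subset_adjoin ?_)
        show x ∈ l.take n
        rwa [List.take_of_length_le hn]
  simpa using key l.length

/-- The union of all towers. -/
def closure (st : B → Subalgebra A B → Prop)
    (hst : ∀ b S T, S ≤ T → st b S → st b T) : Subalgebra A B where
  carrier := {b | ∃ l, IsTower st l ∧ b ∈ gen A l}
  mul_mem' := by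
    rintro a b ⟨l₁, h₁, ha⟩ ⟨l₂, h₂, hb⟩
    exact ⟨l₁ ++ l₂, h₁.append hst h₂, mul_mem (gen_mono (List.subset_append_left _ _) ha)
      (gen_mono (List.subset_append_right _ _) hb)⟩
  add_mem' := by
    rintro a b ⟨l₁, h₁, ha⟩ ⟨l₂, h₂, hb⟩
    exact ⟨l₁ ++ l₂, h₁.append hst h₂, add_mem (gen_mono (List.subset_append_left _ _) ha)
      (gen_mono (List.subset_append_right _ _) hb)⟩
  algebraMap_mem' r := ⟨[], fun i hi => absurd hi (Nat.not_lt_zero i), algebraMap_mem _ r⟩

lemma exists_tower_of_finset {st : B → Subalgebra A B → Prop}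
    (hst : ∀ b S T, S ≤ T → st b S → st b T) (E : Finset B)
    (hE : ∀ e ∈ E, e ∈ closure st hst) :
    ∃ l, IsTower st l ∧ ∀ e ∈ E, e ∈ gen A l := by
  classical
  induction E using Finset.induction_on with
  | empty => exact ⟨[], fun i hi => absurd hi (Nat.not_lt_zero i), by simp⟩
  | @insert a E _ ih =>
    obtain ⟨l₂, h₂, hl₂⟩ := ih fun e he => hE e (Finset.mem_insert_of_mem he)
    obtain ⟨l₁, h₁, hl₁⟩ := hE a (Finset.mem_insert_self a E)
    refine ⟨l₁ ++ l₂, h₁.append hst h₂, fun e he => ?_⟩
    rcases Finset.mem_insert.mp he with rfl | he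
    · exact gen_mono (List.subset_append_left _ _) hl₁
    · exact gen_mono (List.subset_append_right _ _) (hl₂ e he)

lemma mem_closure_of_tower {st : B → Subalgebra A B → Prop}
    (hst : ∀ b S T, S ≤ T → st b S → st b T) {l : List B} (h : IsTower st l) {b : B}
    (hb : st b (gen A l)) : b ∈ closure st hst :=
  ⟨l ++ [b], h.snoc hb, Algebra.subset_adjoin (by simp)⟩

/-- The step of a seminormal extension. -/
def SqCube (b : B) (S : Subalgebra A B) : Prop := b ^ 2 ∈ S ∧ b ^ 3 ∈ S

/-- A seminormal step or a `p`-step. -/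
def SqCubeOrPrime (b : B) (S : Subalgebra A B) : Prop :=
  (b ^ 2 ∈ S ∧ b ^ 3 ∈ S) ∨ ∃ p : ℕ, p.Prime ∧ (p : B) * b ∈ S ∧ b ^ p ∈ S

lemma sqCube_mono : ∀ (b : B) (S T : Subalgebra A B), S ≤ T → SqCube b S → SqCube b T :=
  fun _ _ _ h hb => ⟨h hb.1, h hb.2⟩

lemma sqCubeOrPrime_mono :
    ∀ (b : B) (S T : Subalgebra A B), S ≤ T → SqCubeOrPrime b S → SqCubeOrPrime b T :=
  fun _ _ _ h hb => hb.imp (fun hb => ⟨h hb.1, h hb.2⟩)
    fun ⟨p, hp, h1, h2⟩ => ⟨p, hp, h h1, h h2⟩

lemma mem_closure_sqCube {b : B} (h2 : b ^ 2 ∈ closure (A := A) SqCube sqCube_mono)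
    (h3 : b ^ 3 ∈ closure (A := A) SqCube sqCube_mono) :
    b ∈ closure (A := A) SqCube sqCube_mono := by
  classical
  obtain ⟨l, hl, hm⟩ := exists_tower_of_finset sqCube_mono {b ^ 2, b ^ 3} (by
    intro e he
    rcases Finset.mem_insert.mp he with rfl | he
    · exact h2
    · rw [Finset.mem_singleton.mp he]; exact h3)
  exact mem_closure_of_tower sqCube_mono hl ⟨hm _ (by simp), hm _ (by simp)⟩

lemma mem_closure_sqCubeOrPrime {b : B}
    (h : SqCubeOrPrime b (closure (A := A) SqCubeOrPrime sqCubeOrPrime_mono)) :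
    b ∈ closure (A := A) SqCubeOrPrime sqCubeOrPrime_mono := by
  classical
  rcases h with ⟨h2, h3⟩ | ⟨p, hp, h2, h3⟩
  · obtain ⟨l, hl, hm⟩ := exists_tower_of_finset sqCubeOrPrime_mono {b ^ 2, b ^ 3} (by
      intro e he
      rcases Finset.mem_insert.mp he with rfl | he
      · exact h2
      · rw [Finset.mem_singleton.mp he]; exact h3)
    exact mem_closure_of_tower sqCubeOrPrime_mono hl
      (Or.inl ⟨hm _ (by simp), hm _ (by simp)⟩)
  · obtain ⟨l, hl, hm⟩ := exists_tower_of_finset sqCubeOrPrime_mono {(p : B) * b, b ^ p} (by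
      intro e he
      rcases Finset.mem_insert.mp he with rfl | he
      · exact h2
      · rw [Finset.mem_singleton.mp he]; exact h3)
    exact mem_closure_of_tower sqCubeOrPrime_mono hl
      (Or.inr ⟨p, hp, hm _ (by simp), hm _ (by simp)⟩)

section Main

variable (C : Subalgebra A B)

/-- The conductor of `D` into `C`, as an ideal of `D`. -/
def conductor (D : Subalgebra A B) : Ideal D where
  carrier := {x | ∀ y ∈ D, (x : B) * y ∈ C}
  zero_mem' y _ := by simp
  add_mem' {a b} ha hb y hy := by
    rw [Subalgebra.coe_add, add_mul]; exact add_mem (ha y hy) (hb y hy)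
  smul_mem' c x hx y hy := by
    rw [smul_eq_mul, Subalgebra.coe_mul, mul_assoc, mul_left_comm]
    exact hx _ (mul_mem c.2 hy)

variable {C}

lemma mem_conductor_of_pow {D : Subalgebra A B} (hsq : ∀ b : B, b ^ 2 ∈ C → b ^ 3 ∈ C → b ∈ C) :
    ∀ (n : ℕ) (x : D), x ^ (n + 1) ∈ conductor C D → x ∈ conductor C D := by
  intro n
  induction n using Nat.strong_induction_on with
  | _ n ih =>
    intro x hx
    rcases n with _ | n
    · simpa using hx
    refine ih n n.lt_succ_self x ?_
    have h2 : (x ^ (n + 1)) ^ 2 ∈ conductor C D := by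
      rw [← pow_mul, show (n + 1) * 2 = n + (n + 1 + 1) by ring, pow_add]
      exact Ideal.mul_mem_left _ _ hx
    have h3 : (x ^ (n + 1)) ^ 3 ∈ conductor C D := by
      rw [← pow_mul, show (n + 1) * 3 = (2 * n + 1) + (n + 1 + 1) by ring, pow_add]
      exact Ideal.mul_mem_left _ _ hx
    intro y hy
    refine hsq _ ?_ ?_
    · rw [mul_pow]; exact h2 _ (pow_mem hy 2)
    · rw [mul_pow]; exact h3 _ (pow_mem hy 3)

lemma mem_of_pow_prime {ℓ : ℕ} (hℓ : ℓ.Prime)
    (hp : ∀ e : B, (ℓ : B) * e ∈ C → e ^ ℓ ∈ C → e ∈ C) :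
    ∀ (n : ℕ) (e : B), (∀ k, 0 < k → (ℓ : B) * e ^ k ∈ C) → e ^ ℓ ^ n ∈ C → e ∈ C := by
  intro n
  induction n with
  | zero => intro e _ h; simpa using h
  | succ n ih =>
    intro e hk h
    refine ih e hk (hp _ (hk _ (pow_pos hℓ.pos n)) ?_)
    rwa [← pow_mul, ← pow_succ]

/-- If `B` is integral over `A`, primes of `B` are determined by their contractions, residue
extensions are trivial up to the allowed steps, then a subalgebra closed under the steps is `⊤`. -/
theorem eq_top_of_closed [Algebra.IsIntegral A B]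
    (hsq : ∀ b : B, b ^ 2 ∈ C → b ^ 3 ∈ C → b ∈ C)
    (hP : ∀ Q Q' : Ideal B, Q.IsPrime → Q'.IsPrime →
      Q.comap (algebraMap A B) = Q'.comap (algebraMap A B) → Q = Q')
    (hres : ∀ (Q : Ideal B), Q.IsPrime → ∀ d : B, ∃ (t a : A) (m : ℕ),
      algebraMap A B t ∉ Q ∧ algebraMap A B t * d ^ m - algebraMap A B a ∈ Q ∧
      (m = 1 ∨ ∃ ℓ n : ℕ, ℓ.Prime ∧ m = ℓ ^ n ∧ (ℓ : B) ∈ Q ∧
        ∀ e : B, (ℓ : B) * e ∈ C → e ^ ℓ ∈ C → e ∈ C)) :
    C = ⊤ := by
  classical
  refine eq_top_iff.mpr fun b _ => ?_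
  by_contra hb
  haveI : Algebra.IsIntegral C B := Algebra.IsIntegral.tower_top A
  set D' : Subalgebra C B := Algebra.adjoin C {b} with hD'
  obtain ⟨G, hG⟩ : (Subalgebra.toSubmodule D').FG :=
    (Algebra.IsIntegral.isIntegral (R := C) b).fg_adjoin_singleton
  set D : Subalgebra A B := D'.restrictScalars A with hD
  have hCD : C ≤ D := fun x hx => D'.algebraMap_mem ⟨x, hx⟩
  have hbD : b ∈ D := Algebra.self_mem_adjoin_singleton C b
  haveI : Algebra.IsIntegral D B := Algebra.IsIntegral.tower_top A
  set ι : C →+* D := (Subalgebra.inclusion hCD).toRingHom with hι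
  set I : Ideal C := (conductor C D).comap ι with hI
  have hI1 : I ≠ ⊤ := fun h => hb (by
    have h1 : (ι 1) ∈ conductor C D := (Ideal.eq_top_iff_one I).mp h
    have := h1 b hbD
    rwa [map_one, OneMemClass.coe_one, one_mul] at this)
  obtain ⟨P, hPmin⟩ := Ideal.nonempty_minimalPrimes hI1
  haveI hPprime : P.IsPrime := hPmin.1.1
  have hIP : I ≤ P := hPmin.1.2
  obtain ⟨Q, -, hQprime, hQP⟩ := Ideal.exists_ideal_over_prime_of_isIntegral (S := B) P ⊥ (by
    intro x hx
    have : algebraMap C B x = 0 := hx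
    have : x = 0 := Subtype.ext this
    rw [this]; exact zero_mem _)
  -- clearing denominators for elements of `Q`
  have clear : ∀ x : D, (x : B) ∈ Q → ∃ s : C, s ∉ P ∧ ι s * x ∈ conductor C D := by
    intro x hx
    set S : Submonoid D := P.primeCompl.map ι ⊔ Submonoid.powers x with hS
    by_cases hdisj : Disjoint (conductor C D : Set D) S
    · exfalso
      obtain ⟨q, hq, hIq, hqS⟩ := Ideal.exists_le_prime_disjoint _ S hdisj
      obtain ⟨Q₀, -, hQ₀, hQ₀q⟩ := Ideal.exists_ideal_over_prime_of_isIntegral (S := B) q ⊥ (by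
        intro z hz
        have : algebraMap D B z = 0 := hz
        have : z = 0 := Subtype.ext this
        rw [this]; exact zero_mem _)
      have hle : q.comap ι ≤ P := by
        intro z hz
        by_contra hzP
        exact Set.disjoint_left.mp hqS hz
          (Submonoid.mem_sup_left (Submonoid.mem_map_of_mem ι hzP))
      have heq : q.comap ι = P :=
        le_antisymm hle (hPmin.2 ⟨Ideal.comap_isPrime ι q, Ideal.comap_mono hIq⟩ hle)
      have : Q₀ = Q := by
        refine hP Q₀ Q hQ₀ hQprime ?_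
        rw [← hQ₀q] at heq
        ext a
        rw [Ideal.mem_comap, Ideal.mem_comap]
        exact SetLike.ext_iff.mp (heq.trans hQP.symm) (algebraMap A C a)
      have hxq : x ∈ q := by
        rw [← hQ₀q, this, Ideal.mem_comap]; exact hx
      exact Set.disjoint_left.mp hqS hxq (Submonoid.mem_sup_right (Submonoid.mem_powers x))
    · obtain ⟨z, hzJ, hzS⟩ := Set.not_disjoint_iff.mp hdisj
      obtain ⟨u, hu, v, ⟨n, rfl⟩, rfl⟩ := Submonoid.mem_sup.mp hzS
      obtain ⟨s, hs, rfl⟩ := Submonoid.mem_map.mp hu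
      refine ⟨s, hs, mem_conductor_of_pow hsq n _ ?_⟩
      have : (ι s * x) ^ (n + 1) = (ι s ^ n * x) * (ι s * x ^ n) := by ring
      rw [this]
      exact Ideal.mul_mem_left _ _ hzJ
  -- each element of `D` is moved into `C` by an element of `C \ P`
  have step : ∀ d ∈ D, ∃ s : C, s ∉ P ∧ (s : B) * d ∈ C := by
    intro d hd
    obtain ⟨t, a, m, ht, hta, hm⟩ := hres Q hQprime d
    have htC : algebraMap A C t ∉ P := fun h => ht (by
      rw [← hQP] at h; exact h)
    obtain ⟨s, hs, hsx⟩ := clear ⟨algebraMap A B t * d ^ m - algebraMap A B a,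
      sub_mem (mul_mem (D.algebraMap_mem t) (pow_mem hd m)) (D.algebraMap_mem a)⟩ hta
    have hsC : (s : B) * (algebraMap A B t * d ^ m - algebraMap A B a) ∈ C := by
      have := hsx 1 (one_mem _)
      rwa [mul_one] at this
    have hstm : (s : B) * algebraMap A B t * d ^ m ∈ C := by
      have := add_mem hsC (mul_mem s.2 (C.algebraMap_mem a))
      convert! this using 1; ring
    rcases hm with rfl | ⟨ℓ, n, hℓ, rfl, hℓQ, hclosed⟩
    · refine ⟨s * algebraMap A C t, hPprime.mul_notMem hs htC, ?_⟩
      rw [pow_one] at hstm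
      exact hstm
    · obtain ⟨s', hs', hs'ℓ⟩ := clear ⟨(ℓ : B), natCast_mem D ℓ⟩ hℓQ
      set e : B := (s : B) * (s' : B) * algebraMap A B t * d with he
      refine ⟨s * s' * algebraMap A C t, hPprime.mul_notMem (hPprime.mul_notMem hs hs') htC, ?_⟩
      show e ∈ C
      refine mem_of_pow_prime hℓ hclosed n e ?_ ?_
      · intro k hk
        obtain ⟨k, rfl⟩ := Nat.exists_eq_succ_of_ne_zero hk.ne'
        have : (ℓ : B) * e ^ (k + 1) =
            ((s' : B) * (ℓ : B)) * ((s' : B) ^ k * ((s : B) * algebraMap A B t * d) ^ (k + 1)) := by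
          rw [he]; ring
        rw [this]
        refine hs'ℓ _ (mul_mem (pow_mem (hCD s'.2) _) (pow_mem ?_ _))
        exact mul_mem (mul_mem (hCD s.2) (D.algebraMap_mem t)) hd
      · obtain ⟨k, hk⟩ := Nat.exists_eq_succ_of_ne_zero (pow_pos hℓ.pos n).ne'
        rw [hk, he]
        rw [hk] at hstm
        have : ((s : B) * (s' : B) * algebraMap A B t * d) ^ (k + 1) =
            ((s : B) * algebraMap A B t * d ^ (k + 1)) *
              ((s : B) ^ k * (s' : B) ^ (k + 1) * algebraMap A B t ^ k) := by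
          ring
        rw [this]
        exact mul_mem hstm (mul_mem (mul_mem (pow_mem s.2 _) (pow_mem s'.2 _))
          (pow_mem (C.algebraMap_mem t) _))
  have hGD : ∀ g ∈ G, g ∈ D := fun g hg => by
    show g ∈ Subalgebra.toSubmodule D'
    rw [← hG]; exact Submodule.subset_span hg
  choose s hs hsg using fun g : G => step g.1 (hGD g.1 g.2)
  have hsP : ∏ g : G, s g ∉ P := fun h => by
    obtain ⟨g, -, hg⟩ := (hPprime.prod_mem_iff).mp h
    exact hs g hg
  refine hsP (hIP ?_)
  intro y (hy : y ∈ Subalgebra.toSubmodule D')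
  show ((∏ g : G, s g : C) : B) * y ∈ C
  rw [← hG] at hy
  induction hy using Submodule.span_induction with
  | mem g hg =>
    rw [← Finset.prod_erase_mul _ _ (Finset.mem_univ ⟨g, hg⟩), Subalgebra.coe_mul, mul_assoc]
    exact mul_mem (SetLike.coe_mem _) (hsg ⟨g, hg⟩)
  | zero => simp
  | add x y _ _ hx hy => rw [mul_add]; exact add_mem hx hy
  | smul c x _ hx =>
    show _ * ((c : B) * x) ∈ C
    rw [mul_left_comm]
    exact mul_mem c.2 hx

end Main

end Tower
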